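import Mathlib

/-! A solvable normal subgroup of a finite group has a chief factor of prime-power order on top. -/

set_option autoImplicit false

namespace Cfsg.Agent.H60

theorem commutator_sup_ne {G : Type*} [Group G] (K A : Subgroup G) [A.Normal]
    (hK : Group.IsSolvable K) (hAK : A < K) : A ⊔ ⁅K, K⁆ ≠ K := by
  intro h
  let A' : Subgroup K := A.subgroupOf K
  have hA' : A' ≠ ⊤ := by
    intro ht
    have := Subgroup.subgroupOf_eq_top.mp ht
    exact absurd this (not_le_of_gt hAK)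
  have hnt : Nontrivial (K ⧸ A') := by
    rw [← not_subsingleton_iff_nontrivial]
    intro hs
    exact hA' (QuotientGroup.subgroup_eq_top_of_subsingleton A' hs)
  have hsol : Group.IsSolvable (K ⧸ A') := inferInstance
  have hlt := Group.IsSolvable.commutator_lt_top_of_nontrivial (K ⧸ A')
  apply hlt.ne
  have hmap : (commutator K).map (QuotientGroup.mk' A') = commutator (K ⧸ A') := by
    rw [commutator_def, commutator_def, Subgroup.map_commutator,
      Subgroup.map_top_of_surjective _ (QuotientGroup.mk'_surjective A')]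
  rw [← hmap, eq_top_iff]
  intro x _
  obtain ⟨k, rfl⟩ := QuotientGroup.mk'_surjective A' x
  have hk : (k : G) ∈ A ⊔ ⁅K, K⁆ := by rw [h]; exact k.2
  obtain ⟨a, ha, c, hc, hac⟩ := Subgroup.mem_sup_of_normal_left.mp hk
  have haK : a ∈ K := hAK.le ha
  have hcK : c ∈ K := by
    have : c = a⁻¹ * k := by rw [← hac]; group
    rw [this]
    exact K.mul_mem (K.inv_mem haK) k.2
  have hc' : (⟨c, hcK⟩ : K) ∈ commutator K := by
    have h1 : (commutator K).map K.subtype = ⁅K, K⁆ := by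
      rw [commutator_def, Subgroup.map_commutator, ← MonoidHom.range_eq_map, K.range_subtype]
    rw [← h1] at hc
    obtain ⟨c', hc', hcc'⟩ := hc
    have : c' = (⟨c, hcK⟩ : K) := Subtype.ext hcc'
    rw [← this]
    exact hc'
  refine ⟨⟨c, hcK⟩, hc', ?_⟩
  have : k = (⟨a, haK⟩ : K) * ⟨c, hcK⟩ := Subtype.ext hac.symm
  rw [this, map_mul]
  have h2 : QuotientGroup.mk' A' (⟨a, haK⟩ : K) = 1 := by
    rw [QuotientGroup.mk'_apply, QuotientGroup.eq_one_iff]
    exact ha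
  rw [h2, one_mul]

theorem exists_normal_primePow_relIndex {G : Type*} [Group G] [Finite G] (K : Subgroup G)
    [K.Normal] (hK : Group.IsSolvable K) (hK1 : K ≠ ⊥) :
    ∃ A : Subgroup G, A.Normal ∧ A < K ∧ ∃ ℓ m : ℕ, ℓ.Prime ∧ A.relIndex K = ℓ ^ m := by
  classical
  obtain ⟨A, ⟨hAn, hAK⟩, hmax⟩ : ∃ A : Subgroup G, (A.Normal ∧ A < K) ∧
      ∀ B : Subgroup G, B.Normal → A < B → ¬ B < K := by
    have hfin : {A : Subgroup G | A.Normal ∧ A < K}.Finite := Set.toFinite _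
    have hne : {A : Subgroup G | A.Normal ∧ A < K}.Nonempty :=
      ⟨⊥, inferInstance, bot_lt_iff_ne_bot.mpr hK1⟩
    obtain ⟨A, hA⟩ := hfin.exists_maximal hne
    refine ⟨A, hA.prop, ?_⟩
    intro B hB hAB hBK
    exact hA.not_prop_of_gt hAB ⟨hB, hBK⟩
  refine ⟨A, hAn, hAK, ?_⟩
  have hcomm : ⁅K, K⁆ ≤ A := by
    by_contra hc
    have h1 : A < A ⊔ ⁅K, K⁆ := by
      refine lt_of_le_of_ne le_sup_left ?_
      intro h
      exact hc (h ▸ le_sup_right)
    have h2 : A ⊔ ⁅K, K⁆ ≤ K := sup_le hAK.le (Subgroup.commutator_le_self K)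
    have h3 := hmax (A ⊔ ⁅K, K⁆) inferInstance h1
    exact h3 (lt_of_le_of_ne h2 (commutator_sup_ne K A hK hAK))
  have hidx : A.relIndex K ≠ 1 := by
    intro h
    exact absurd (Subgroup.relIndex_eq_one.mp h) (not_le_of_gt hAK)
  obtain ⟨ℓ, hℓ, hℓd⟩ := Nat.exists_prime_and_dvd hidx
  have : Fact ℓ.Prime := ⟨hℓ⟩
  -- powers mod A
  have hmulpow : ∀ x ∈ K, ∀ y ∈ K, x ^ ℓ ∈ A → y ^ ℓ ∈ A → (x * y) ^ ℓ ∈ A := by
    intro x hx y hy hxA hyA
    rw [← QuotientGroup.eq_one_iff] at hxA hyA ⊢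
    have hc : Commute (x : G ⧸ A) (y : G ⧸ A) := by
      have h1 : x * y * x⁻¹ * y⁻¹ ∈ A := hcomm (Subgroup.commutator_mem_commutator hx hy)
      rw [← QuotientGroup.eq_one_iff] at h1
      rw [commute_iff_eq]
      have h2 : (x : G ⧸ A) * y * (x : G ⧸ A)⁻¹ * (y : G ⧸ A)⁻¹ = 1 := by
        rw [← h1]
        simp
      rwa [mul_inv_eq_one, mul_inv_eq_iff_eq_mul] at h2
    rw [QuotientGroup.mk_pow] at hxA hyA ⊢
    rw [QuotientGroup.mk_mul, hc.mul_pow, hxA, hyA, one_mul]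
  let B : Subgroup G :=
    { carrier := {x | x ∈ K ∧ x ^ ℓ ∈ A}
      mul_mem' := by
        rintro x y ⟨hx, hx'⟩ ⟨hy, hy'⟩
        exact ⟨K.mul_mem hx hy, hmulpow x hx y hy hx' hy'⟩
      one_mem' := ⟨K.one_mem, by rw [one_pow]; exact A.one_mem⟩
      inv_mem' := by
        rintro x ⟨hx, hx'⟩
        exact ⟨K.inv_mem hx, by rw [inv_pow]; exact A.inv_mem hx'⟩ }
  have hBn : B.Normal := by
    constructor
    rintro n ⟨hn, hn'⟩ g
    refine ⟨Subgroup.Normal.conj_mem inferInstance n hn g, ?_⟩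
    rw [conj_pow]
    exact hAn.conj_mem _ hn' g
  have hBK : B ≤ K := fun x hx => hx.1
  have hAB : A ≤ B := fun x hx => ⟨hAK.le hx, A.pow_mem hx ℓ⟩
  have hABne : A ≠ B := by
    intro hAB'
    have hcard : ℓ ∣ Nat.card (K ⧸ A.subgroupOf K) := hℓd
    obtain ⟨x, hx⟩ := exists_prime_orderOf_dvd_card' ℓ hcard
    obtain ⟨k, rfl⟩ := QuotientGroup.mk_surjective x
    have h1 : (k : K ⧸ A.subgroupOf K) ^ ℓ = 1 := by rw [← hx]; exact pow_orderOf_eq_one _
    rw [← QuotientGroup.mk_pow, QuotientGroup.eq_one_iff] at h1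
    have h2 : (k : G) ∈ B := ⟨k.2, h1⟩
    rw [← hAB'] at h2
    have h3 : (k : K ⧸ A.subgroupOf K) = 1 := by
      rw [QuotientGroup.eq_one_iff]; exact h2
    rw [h3, orderOf_one] at hx
    exact hℓ.one_lt.ne hx
  have hBeq : B = K := by
    by_contra hne
    exact hmax B hBn (lt_of_le_of_ne hAB hABne) (lt_of_le_of_ne hBK hne)
  have hpg : IsPGroup ℓ (K ⧸ A.subgroupOf K) := by
    intro x
    obtain ⟨k, rfl⟩ := QuotientGroup.mk_surjective x
    refine ⟨1, ?_⟩
    rw [pow_one, ← QuotientGroup.mk_pow, QuotientGroup.eq_one_iff]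
    have : (k : G) ∈ B := by rw [hBeq]; exact k.2
    exact this.2
  obtain ⟨m, hm⟩ := hpg.exists_card_eq
  exact ⟨ℓ, m, hℓ, hm⟩

end Cfsg.Agent.H60
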