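import Cfsg.Agent.H60.ThreePrimes
import Cfsg.Agent.H60.Chief

set_option autoImplicit false

namespace Cfsg.Agent.H60

/-- At most one of three pairwise non-adjacent primes divides the order of a solvable normal
subgroup. -/
theorem three_primes_solvable {G : Type*} [Group G] [Finite G] (n : ℕ) :
    ∀ (K : Subgroup G) (_ : K.Normal) (_ : Group.IsSolvable K) (_ : Nat.card K ≤ n)
      (r s t : ℕ) (_ : r.Prime) (_ : s.Prime) (_ : t.Prime) (_ : r ≠ s) (_ : r ≠ t) (_ : s ≠ t)
      (_ : ¬ ∃ x : G, orderOf x = r * s) (_ : ¬ ∃ x : G, orderOf x = r * t)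
      (_ : ¬ ∃ x : G, orderOf x = s * t)
      (_ : r ∣ Nat.card K) (_ : s ∣ Nat.card K) (_ : t ∣ Nat.card G), False := by
  induction n with
  | zero =>
    intro K _ _ hn
    have : 0 < Nat.card K := Nat.card_pos
    omega
  | succ n ih =>
    intro K hKn hKs hn r s t hr hs ht hrs hrt hst n1 n2 n3 hrK hsK htG
    have hK1 : K ≠ ⊥ := by
      rintro rfl
      rw [Subgroup.card_bot] at hrK
      exact hr.one_lt.ne' (Nat.dvd_one.mp hrK)
    obtain ⟨A, hAn, hAK, ℓ, m, hℓ, hm⟩ := exists_normal_primePow_relIndex K hKs hK1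
    have hcard : Nat.card K = Nat.card A * ℓ ^ m := by
      have := Subgroup.relIndex_mul_relIndex (⊥ : Subgroup G) A K bot_le hAK.le
      rw [Subgroup.relIndex_bot_left, Subgroup.relIndex_bot_left, hm] at this
      exact this.symm
    have hAs : Group.IsSolvable A :=
      Group.isSolvable_of_isSolvable_injective (Subgroup.inclusion_injective hAK.le)
    have hAcard : Nat.card A ≤ n := by
      have h1 : Nat.card A < Nat.card K := by
        have h2 := Set.ncard_lt_ncard (SetLike.coe_ssubset_coe.mpr hAK) (Set.toFinite _)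
        exact h2
      omega
    have hdvd : ∀ u : ℕ, u.Prime → u ∣ Nat.card K → ¬ u ∣ Nat.card A → u = ℓ := by
      intro u hu huK huA
      rw [hcard] at huK
      rcases (Nat.Prime.dvd_mul hu).mp huK with h | h
      · exact absurd h huA
      · exact (Nat.prime_dvd_prime_iff_eq hu hℓ).mp (hu.dvd_of_dvd_pow h)
    -- main step
    have step : ∀ r s t : ℕ, r.Prime → s.Prime → t.Prime → r ≠ s → r ≠ t → s ≠ t →
        (¬ ∃ x : G, orderOf x = r * s) → (¬ ∃ x : G, orderOf x = r * t) →
        (¬ ∃ x : G, orderOf x = s * t) → r ∣ Nat.card K → s ∣ Nat.card K → t ∣ Nat.card G →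
        ¬ r ∣ Nat.card A → False := by
      intro r s t hr hs ht hrs hrt hst n1 n2 n3 hrK hsK htG hrA
      have hrl : r = ℓ := hdvd r hr hrK hrA
      have hsA : s ∣ Nat.card A := by
        by_contra h
        exact hrs (hrl.trans (hdvd s hs hsK h).symm)
      by_cases htK : t ∣ Nat.card K
      · have htA : t ∣ Nat.card A := by
          by_contra h
          exact hrt (hrl.trans (hdvd t ht htK h).symm)
        exact ih A hAn hAs hAcard s t r hs ht hr hst (Ne.symm hrs) (Ne.symm hrt) n3
          (by rwa [mul_comm]) (by rwa [mul_comm]) hsA htA (hrK.trans K.card_subgroup_dvd_card)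
      · have htI : t ∣ K.index := by
          rw [← Subgroup.card_mul_index K] at htG
          exact ((Nat.Prime.dvd_mul ht).mp htG).resolve_left htK
        have hrR : r ∣ A.relIndex K := by
          rw [hcard, ← hm] at hrK
          exact ((Nat.Prime.dvd_mul hr).mp hrK).resolve_left hrA
        rcases three_primes_series A K hAK.le s r t hs hr ht (Ne.symm hrs) hst hrt hsA hrR htI
          with h | h | h
        · rw [mul_comm] at h; exact n1 h
        · exact n3 h
        · exact n2 h
    by_cases hrA : r ∣ Nat.card A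
    · by_cases hsA : s ∣ Nat.card A
      · exact ih A hAn hAs hAcard r s t hr hs ht hrs hrt hst n1 n2 n3 hrA hsA htG
      · exact step s r t hs hr ht (Ne.symm hrs) hst hrt (by rwa [mul_comm]) n3 n2 hsK hrK htG hsA
    · exact step r s t hr hs ht hrs hrt hst n1 n2 n3 hrK hsK htG hrA

end Cfsg.Agent.H60
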