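import Mathlib.GroupTheory.Transfer
import Mathlib.GroupTheory.Abelianization.Defs
import Mathlib.GroupTheory.PGroup
import Mathlib.GroupTheory.Sylow
import Mathlib.Data.ZMod.Basic
import Mathlib.Tactic

/-! General finite group theory: `N/C` for an element of prime order, Frattini counting,
coprime counting, transfer for abelian Sylow subgroups. -/

set_option autoImplicit false

namespace Cfsg.Agent.H60

open Subgroup

variable {G : Type*} [Group G] [Finite G]

/-! ### N/C -/

section NC

variable {p : ℕ} [hp : Fact p.Prime] {z : G} (hz : orderOf z = p)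

omit [Finite G] in
theorem mem_normalizer_zpowers {g z : G} :
    g ∈ normalizer (zpowers z : Set G) ↔ ∀ x, x ∈ zpowers z ↔ g * x * g⁻¹ ∈ zpowers z :=
  Subgroup.mem_normalizer_iff

omit [Finite G] in
theorem centralizer_zpowers (z : G) :
    centralizer ((zpowers z : Subgroup G) : Set G) = centralizer ({z} : Set G) := by
  apply le_antisymm
  · apply Subgroup.centralizer_le
    rw [Set.singleton_subset_iff]
    exact mem_zpowers z
  · intro g hg
    rw [mem_centralizer_singleton_iff] at hg
    rw [mem_centralizer_iff]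
    rintro _ ⟨n, rfl⟩
    have : Commute z g := hg.symm
    exact (this.zpow_left n)

/-- The ratio `|N_G(⟨z⟩)| / |C_G(z)|`. -/
noncomputable def ratio (z : G) : ℕ :=
  (centralizer ({z} : Set G)).relIndex (normalizer (zpowers z : Set G))

omit [Finite G] in
theorem centralizer_le_normalizer_zpowers (z : G) :
    centralizer ({z} : Set G) ≤ normalizer (zpowers z : Set G) := by
  rw [← centralizer_zpowers]
  exact centralizer_le_normalizer _

theorem card_normalizer_eq (z : G) :
    Nat.card (normalizer (zpowers z : Set G)) =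
      Nat.card (centralizer ({z} : Set G)) * ratio z := by
  have h1 : Nat.card ((centralizer ({z} : Set G)).subgroupOf (normalizer (zpowers z : Set G))) =
      Nat.card (centralizer ({z} : Set G)) :=
    Nat.card_congr (Subgroup.subgroupOfEquivOfLe (centralizer_le_normalizer_zpowers z)).toEquiv
  rw [ratio, ← h1]
  exact (Subgroup.card_mul_index _).symm

include hz in
theorem ratio_dvd : ratio z ∣ p - 1 := by
  have key := card_dvd_of_injective _
    (QuotientGroup.kerLift_injective (zpowers z).normalizerMonoidHom)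
  rw [normalizerMonoidHom_ker, ← index, centralizer_zpowers] at key
  have h2 : Nat.card (MulAut (zpowers z)) = p - 1 := by
    rw [IsCyclic.card_mulAut, Nat.card_zpowers, hz, Nat.totient_prime hp.out]
  rw [h2] at key
  exact key

include hz in
theorem dvd_ratio {w : G} {k : ℕ} (hw : w * z * w⁻¹ = z ^ k) :
    orderOf (k : ZMod p) ∣ ratio z := by
  have hk : ¬ p ∣ k := by
    intro h
    have h1 : z ^ k = 1 := by
      rw [← orderOf_dvd_iff_pow_eq_one, hz]
      exact h
    rw [h1, mul_inv_eq_one] at hw
    have h2 : z = 1 := by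
      have := congrArg (fun t => w⁻¹ * t) hw
      simpa using this
    rw [h2, orderOf_one] at hz
    exact hp.out.one_lt.ne hz
  have hwN : w ∈ normalizer (zpowers z : Set G) := by
    rw [mem_normalizer_zpowers]
    have hle : ∀ x, x ∈ zpowers z → w * x * w⁻¹ ∈ zpowers z := by
      rintro _ ⟨n, rfl⟩
      have : w * z ^ n * w⁻¹ = (w * z * w⁻¹) ^ n := by
        rw [conj_zpow]
      change w * z ^ n * w⁻¹ ∈ _
      rw [this, hw]
      exact zpow_mem (pow_mem (mem_zpowers z) _) _
    intro x
    refine ⟨hle x, ?_⟩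
    intro hx
    have hmap : (zpowers z).map (MulAut.conj w).toMonoidHom ≤ zpowers z := by
      rintro _ ⟨y, hy, rfl⟩
      exact hle y hy
    have hcard : Nat.card ((zpowers z).map (MulAut.conj w).toMonoidHom) =
        Nat.card (zpowers z) := by
      have hinj : Function.Injective (MulAut.conj w).toMonoidHom := (MulAut.conj w).injective
      exact Subgroup.card_map_of_injective hinj
    have heq := Subgroup.eq_of_le_of_card_ge hmap hcard.ge
    rw [← heq] at hx
    obtain ⟨y, hy, hy2⟩ := hx
    have : y = x := by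
      have h3 : w * y * w⁻¹ = w * x * w⁻¹ := hy2
      exact mul_left_cancel (mul_right_cancel h3)
    rwa [← this]
  set φ := (zpowers z).normalizerMonoidHom with hφ
  have h1 : orderOf (φ ⟨w, hwN⟩) ∣ Nat.card φ.range := by
    exact Subgroup.orderOf_dvd_natCard (s := φ.range) ⟨_, rfl⟩
  have h2 : Nat.card φ.range = ratio z := by
    rw [ratio, ← Subgroup.index_ker φ, hφ, normalizerMonoidHom_ker, centralizer_zpowers]
    rfl
  rw [h2] at h1
  refine dvd_trans ?_ h1
  apply orderOf_dvd_of_pow_eq_one
  have h3 : ∀ n : ℕ, ((φ ⟨w, hwN⟩ ^ n) ⟨z, mem_zpowers z⟩ : G) = z ^ (k ^ n) := by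
    intro n
    rw [← map_pow]
    have : ((φ (⟨w, hwN⟩ ^ n)) ⟨z, mem_zpowers z⟩ : G) = w ^ n * z * (w ^ n)⁻¹ := rfl
    rw [this]
    clear this
    induction n with
    | zero => simp
    | succ n ih =>
      rw [pow_succ' w n, mul_inv_rev]
      have : w * w ^ n * z * ((w ^ n)⁻¹ * w⁻¹) = w * (w ^ n * z * (w ^ n)⁻¹) * w⁻¹ := by group
      rw [this, ih]
      have : w * z ^ k ^ n * w⁻¹ = (w * z * w⁻¹) ^ (k ^ n) := by rw [conj_pow]
      rw [this, hw, ← pow_mul, pow_succ']
  have h4 := h3 (orderOf (φ ⟨w, hwN⟩))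
  rw [pow_orderOf_eq_one] at h4
  have h5 : z ^ 1 = z ^ (k ^ orderOf (φ ⟨w, hwN⟩)) := by
    rw [pow_one]
    exact h4
  rw [pow_eq_pow_iff_modEq, hz] at h5
  have h6 := (ZMod.natCast_eq_natCast_iff _ _ _).mpr h5
  push_cast at h6
  exact h6.symm

end NC

/-! ### Frattini -/

theorem card_quot_mul_dvd {p : ℕ} [Fact p.Prime] {N : Subgroup G} [N.Normal]
    (P : Sylow p G) (hP : (P : Subgroup G) ≤ N) :
    N.index * Nat.card P ∣ Nat.card (normalizer (P : Set G)) := by
  have h := Sylow.normalizer_sup_eq_top' P hP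
  have h1 : (N.subgroupOf (normalizer (P : Set G))).index = N.index := by
    have h2 := Subgroup.relIndex_sup_right (K := N) (H := normalizer (P : Set G))
    rw [h, Subgroup.relIndex_top_right] at h2
    rw [h2]
    rfl
  have h3 : Nat.card (normalizer (P : Set G)) =
      N.index * Nat.card (N.subgroupOf (normalizer (P : Set G))) := by
    rw [← h1, mul_comm, Subgroup.card_mul_index]
  rw [h3]
  apply Nat.mul_dvd_mul_left
  have h4 : Nat.card P = Nat.card ((P : Subgroup G).subgroupOf (normalizer (P : Set G))) := by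
    exact (Nat.card_congr (Subgroup.subgroupOfEquivOfLe Subgroup.le_normalizer).toEquiv).symm
  rw [h4]
  apply Subgroup.card_dvd_of_le
  intro x hx
  exact hP hx

/-! ### Coprime counting -/

/-- If `P` is a `p`-group and no nontrivial element of the `P`-invariant subgroup `N` is
centralised by `P`, then `|N| ≡ 1` modulo `p`. -/
theorem card_modEq_one_of_centralizer {p : ℕ} [Fact p.Prime] (P N : Subgroup G) (hP : IsPGroup p P)
    (hN : ∀ g ∈ P, ∀ n ∈ N, g * n * g⁻¹ ∈ N)
    (h : ∀ n ∈ N, (∀ g ∈ P, g * n = n * g) → n = 1) : Nat.card N ≡ 1 [MOD p] := by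
  classical
  let act : MulAction P N :=
    { smul := fun g n => ⟨g * n * (g : G)⁻¹, hN g g.2 n n.2⟩
      one_smul := fun n => Subtype.ext (by
        change ((1 : P) : G) * n * ((1 : P) : G)⁻¹ = n
        simp)
      mul_smul := fun g g' n => Subtype.ext (by
        change ((g * g' : P) : G) * n * ((g * g' : P) : G)⁻¹ =
          g * (g' * n * (g' : G)⁻¹) * (g : G)⁻¹
        push_cast
        group) }
  have h1 := hP.card_modEq_card_fixedPoints N
  have h2 : Nat.card (MulAction.fixedPoints P N) = 1 := by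
    rw [Nat.card_eq_one_iff_unique]
    constructor
    · constructor
      rintro ⟨a, ha⟩ ⟨b, hb⟩
      have key : ∀ a : N, a ∈ MulAction.fixedPoints P N → a = 1 := by
        intro a ha
        apply Subtype.ext
        apply h a a.2
        intro g hg
        have h3 := congrArg Subtype.val (ha ⟨g, hg⟩)
        change g * (a : G) * g⁻¹ = a at h3
        rwa [mul_inv_eq_iff_eq_mul] at h3
      apply Subtype.ext
      change a = b
      rw [key a ha, key b hb]
    · refine ⟨⟨1, ?_⟩⟩
      intro g
      apply Subtype.ext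
      change (g : G) * ((1 : N) : G) * (g : G)⁻¹ = ((1 : N) : G)
      simp
  rw [h2] at h1
  exact h1

/-! ### Transfer -/

open scoped IsMulCommutative in
/-- Abelian Sylow subgroup: a central `p`-element in the commutator subgroup is trivial. -/
theorem eq_one_of_central_of_commutator {p : ℕ} [Fact p.Prime] (P : Sylow p G)
    (hab : ∀ a ∈ P, ∀ b ∈ P, a * b = b * a) {z : G} (hzP : z ∈ P) (hz : z ∈ center G)
    (hz' : z ∈ commutator G) : z = 1 := by
  have : IsMulCommutative P := ⟨⟨fun a b => Subtype.ext (hab a a.2 b b.2)⟩⟩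
  have key : ∀ (k : ℕ) (g₀ : G), g₀⁻¹ * z ^ k * g₀ ∈ (P : Subgroup G) →
      g₀⁻¹ * z ^ k * g₀ = z ^ k := by
    intro k g₀ _
    have h1 : z ^ k ∈ center G := pow_mem hz k
    rw [mul_assoc, (Subgroup.mem_center_iff.mp h1 g₀).symm, inv_mul_cancel_left]
  have h1 := MonoidHom.transfer_eq_pow (MonoidHom.id (P : Subgroup G)) z key
  have h2 : MonoidHom.transfer (MonoidHom.id (P : Subgroup G)) z = 1 :=
    Abelianization.commutator_subset_ker _ hz'
  rw [h2] at h1
  have h3 : z ^ (P : Subgroup G).index = 1 := (congrArg Subtype.val h1).symm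
  obtain ⟨n, hn⟩ := P.2 ⟨z, hzP⟩
  have h4 : z ^ p ^ n = 1 := congrArg Subtype.val hn
  have hcop : Nat.Coprime (P : Subgroup G).index (p ^ n) := by
    apply Nat.Coprime.pow_right
    rw [Nat.coprime_comm, Nat.Prime.coprime_iff_not_dvd Fact.out]
    exact P.not_dvd_index
  have h5 : orderOf z ∣ 1 := by
    rw [← hcop]
    exact Nat.dvd_gcd (orderOf_dvd_of_pow_eq_one h3) (orderOf_dvd_of_pow_eq_one h4)
  exact orderOf_eq_one_iff.mp (Nat.dvd_one.mp h5)

end Cfsg.Agent.H60
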