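import Cfsg.Agent.H60.Gen

/-! Elements of prime order `q` when `q` divides `|G|` exactly once. -/

set_option autoImplicit false

namespace Cfsg.Agent.H60

open Subgroup

variable {G : Type*} [Group G] [Finite G] {q : ℕ} [hq : Fact q.Prime]

theorem factorization_eq_one {z : G} (hz : orderOf z = q) (h2 : ¬ q ^ 2 ∣ Nat.card G) :
    (Nat.card G).factorization q = 1 := by
  have h1 : q ∣ Nat.card G := by
    rw [← hz]
    exact orderOf_dvd_natCard z
  apply le_antisymm
  · by_contra h
    push Not at h
    exact h2 ((Nat.Prime.pow_dvd_iff_le_factorization hq.out Nat.card_pos.ne').mpr h)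
  · exact (Nat.Prime.dvd_iff_one_le_factorization hq.out Nat.card_pos.ne').mp h1

/-- The Sylow subgroup generated by `z`. -/
noncomputable def sylZ {z : G} (hz : orderOf z = q) (h2 : ¬ q ^ 2 ∣ Nat.card G) : Sylow q G :=
  Sylow.ofCard (zpowers z) (by rw [factorization_eq_one hz h2, pow_one, Nat.card_zpowers, hz])

theorem sylZ_coe {z : G} (hz : orderOf z = q) (h2 : ¬ q ^ 2 ∣ Nat.card G) :
    (sylZ hz h2 : Subgroup G) = zpowers z := rfl

theorem index_normalizer_modEq {z : G} (hz : orderOf z = q) (h2 : ¬ q ^ 2 ∣ Nat.card G) :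
    (normalizer (zpowers z : Set G)).index ≡ 1 [MOD q] := by
  have h1 := card_sylow_modEq_one q G
  rw [(sylZ hz h2).card_eq_index_normalizer] at h1
  exact h1

/-- Subgroups of order `q` are conjugate. -/
theorem exists_conj_zpowers {a b : G} (ha : orderOf a = q) (hb : orderOf b = q)
    (h2 : ¬ q ^ 2 ∣ Nat.card G) : ∃ g : G, zpowers (g * a * g⁻¹) = zpowers b := by
  obtain ⟨g, hg⟩ := MulAction.exists_smul_eq G (sylZ ha h2) (sylZ hb h2)
  refine ⟨g, ?_⟩
  have h1 := congrArg (fun P : Sylow q G => (P : Subgroup G)) hg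
  simp only [Sylow.coe_subgroup_smul, sylZ_coe] at h1
  rw [← h1]
  ext x
  rw [Subgroup.mem_pointwise_smul_iff_inv_smul_mem, mem_zpowers_iff, mem_zpowers_iff]
  apply exists_congr
  intro k
  rw [conj_zpow, ← map_inv, MulAut.smul_def, MulAut.conj_apply, inv_inv]
  constructor
  · rintro rfl; group
  · intro h; rw [h]; group

omit [Finite G] in
theorem centralizer_congr {a b : G} (h : zpowers a = zpowers b) :
    centralizer ({a} : Set G) = centralizer ({b} : Set G) := by
  rw [← centralizer_zpowers, ← centralizer_zpowers, h]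

omit [Finite G] in
theorem card_centralizer_conj (g a : G) :
    Nat.card (centralizer ({g * a * g⁻¹} : Set G)) = Nat.card (centralizer ({a} : Set G)) := by
  have h : centralizer ({g * a * g⁻¹} : Set G) =
      (centralizer ({a} : Set G)).map (MulAut.conj g).toMonoidHom := by
    ext x
    rw [mem_centralizer_singleton_iff, mem_map]
    constructor
    · intro hx
      refine ⟨g⁻¹ * x * g, ?_, ?_⟩
      · rw [mem_centralizer_singleton_iff]
        have : g⁻¹ * x * g * a = g⁻¹ * (x * (g * a * g⁻¹)) * g := by group
        rw [this, hx]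
        group
      · change g * (g⁻¹ * x * g) * g⁻¹ = x
        group
    · rintro ⟨y, hy, rfl⟩
      rw [mem_centralizer_singleton_iff] at hy
      change g * y * g⁻¹ * (g * a * g⁻¹) = g * a * g⁻¹ * (g * y * g⁻¹)
      have : g * y * g⁻¹ * (g * a * g⁻¹) = g * (y * a) * g⁻¹ := by group
      rw [this, hy]
      group
  have hinj : Function.Injective (MulAut.conj g).toMonoidHom := (MulAut.conj g).injective
  rw [h, Subgroup.card_map_of_injective hinj]

theorem card_centralizer_eq {a b : G} (ha : orderOf a = q) (hb : orderOf b = q)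
    (h2 : ¬ q ^ 2 ∣ Nat.card G) :
    Nat.card (centralizer ({a} : Set G)) = Nat.card (centralizer ({b} : Set G)) := by
  obtain ⟨g, hg⟩ := exists_conj_zpowers ha hb h2
  rw [← card_centralizer_conj g a, centralizer_congr hg]

theorem orderOf_dvd_centralizer_of_commute {a b : G} (h : a * b = b * a) :
    orderOf a ∣ Nat.card (centralizer ({b} : Set G)) := by
  apply Subgroup.orderOf_dvd_natCard
  rw [mem_centralizer_singleton_iff]
  exact h

/-- A prime divisor `r` of `|C(z)|` gives an element of order `r` whose centraliser has order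
divisible by the order of `z`. -/
theorem exists_of_prime_dvd_centralizer {z : G} {r : ℕ} (hr : r.Prime)
    (h : r ∣ Nat.card (centralizer ({z} : Set G))) :
    ∃ a : G, orderOf a = r ∧ orderOf z ∣ Nat.card (centralizer ({a} : Set G)) := by
  have : Fact r.Prime := ⟨hr⟩
  obtain ⟨⟨a, ha⟩, hao⟩ := exists_prime_orderOf_dvd_card' r h
  rw [Subgroup.orderOf_mk] at hao
  refine ⟨a, hao, ?_⟩
  apply orderOf_dvd_centralizer_of_commute
  rw [mem_centralizer_singleton_iff] at ha
  exact ha.symm

omit [Finite G] in
theorem mem_centralizer_self (z : G) : z ∈ centralizer ({z} : Set G) := by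
  rw [mem_centralizer_singleton_iff]

/-- If `|C(z)|` equals the order of `z` then `C(z) = ⟨z⟩`. -/
theorem centralizer_eq_zpowers {z : G}
    (h : Nat.card (centralizer ({z} : Set G)) = orderOf z) :
    centralizer ({z} : Set G) = zpowers z := by
  symm
  apply Subgroup.eq_of_le_of_card_ge
  · rw [zpowers_le]
    exact mem_centralizer_self z
  · rw [h, Nat.card_zpowers]

/-- Elements of order a multiple of `q`, when elements of order `q` are self-centralising. -/
theorem orderOf_eq_of_dvd (h : ∀ a : G, orderOf a = q → Nat.card (centralizer ({a} : Set G)) = q)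
    {g : G} (hg : q ∣ orderOf g) : orderOf g = q := by
  have hg0 : orderOf g ≠ 0 := (orderOf_pos g).ne'
  have h1 : orderOf (g ^ (orderOf g / q)) = q := by
    rw [orderOf_pow_of_dvd]
    · exact Nat.div_div_self hg hg0
    · exact (Nat.div_pos (Nat.le_of_dvd (orderOf_pos g) hg) hq.out.pos).ne'
    · exact Nat.div_dvd_of_dvd hg
  have h2 := h _ h1
  have h3 : orderOf g ∣ q := by
    rw [← h2]
    apply orderOf_dvd_centralizer_of_commute
    exact ((Commute.refl g).pow_right _)
  exact Nat.dvd_antisymm h3 hg

/-- Simplicity-type alternatives for a normal subgroup. -/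
theorem normal_alternative {N : Subgroup G} [N.Normal] {z : G} (hz : orderOf z = q)
    (h2 : ¬ q ^ 2 ∣ Nat.card G) (hc : Nat.card (centralizer ({z} : Set G)) = q)
    {k : ℕ} (hN : Nat.card (normalizer (zpowers z : Set G)) = q * k) :
    (q ∣ Nat.card N ∧ N.index ∣ k) ∨ (¬ q ∣ Nat.card N ∧ Nat.card N ≡ 1 [MOD q]) := by
  by_cases hd : q ∣ Nat.card N
  · left
    refine ⟨hd, ?_⟩
    obtain ⟨⟨a, ha⟩, hao⟩ := exists_prime_orderOf_dvd_card' q hd
    rw [Subgroup.orderOf_mk] at hao
    obtain ⟨g, hg⟩ := exists_conj_zpowers hao hz h2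
    have hzN : zpowers z ≤ N := by
      rw [← hg, zpowers_le]
      exact (inferInstance : N.Normal).conj_mem a ha g
    have h3 := card_quot_mul_dvd (N := N) (sylZ hz h2) hzN
    have h4 : Nat.card (sylZ hz h2) = q := by
      change Nat.card (zpowers z) = q
      rw [Nat.card_zpowers, hz]
    have h5 : Nat.card (normalizer (sylZ hz h2 : Set G)) =
        Nat.card (normalizer (zpowers z : Set G)) := rfl
    rw [h4, h5, hN, mul_comm] at h3
    exact Nat.dvd_of_mul_dvd_mul_left hq.out.pos h3
  · right
    refine ⟨hd, ?_⟩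
    apply card_modEq_one_of_centralizer (zpowers z) N
    · exact (sylZ hz h2).2
    · intro g _ n hn
      exact (inferInstance : N.Normal).conj_mem n hn g
    · intro n hn hcomm
      have h3 : n ∈ centralizer ({z} : Set G) := by
        rw [mem_centralizer_singleton_iff]
        exact (hcomm z (mem_zpowers z)).symm
      rw [centralizer_eq_zpowers (by rw [hc, hz])] at h3
      have h4 : orderOf n ∣ q := by
        have := Subgroup.orderOf_dvd_natCard _ h3
        rwa [Nat.card_zpowers, hz] at this
      rcases (Nat.dvd_prime hq.out).mp h4 with h5 | h5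
      · exact orderOf_eq_one_iff.mp h5
      · exfalso
        apply hd
        rw [← h5]
        exact Subgroup.orderOf_dvd_natCard _ hn

end Cfsg.Agent.H60
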