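import Cfsg.Agent.H60.Gen2

/-! Small facts on automorphisms stabilising a subgroup of a finite group. -/

set_option autoImplicit false

namespace Cfsg.Agent.H60

open Subgroup

theorem exists_preimage_of_maps {G : Type*} [Group G] [Finite G] {S : Subgroup G} (φ : MulAut G)
    (h : ∀ s ∈ S, φ s ∈ S) : ∀ r ∈ S, ∃ s ∈ S, φ s = r := by
  have hinj : Function.Injective φ.toMonoidHom := φ.injective
  have hmap : S.map φ.toMonoidHom = S := by
    apply Subgroup.eq_of_le_of_card_ge
    · rintro _ ⟨s, hs, rfl⟩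
      exact h s hs
    · rw [Subgroup.card_map_of_injective hinj]
  intro r hr
  rw [← hmap] at hr
  obtain ⟨s, hs, hsr⟩ := hr
  exact ⟨s, hs, hsr⟩

theorem mem_normalizer_of_conj_le {G : Type*} [Group G] [Finite G] {S : Subgroup G} {g : G}
    (h : ∀ s ∈ S, g * s * g⁻¹ ∈ S) : g ∈ normalizer (S : Set G) := by
  rw [Subgroup.mem_normalizer_iff]
  intro r
  refine ⟨h r, ?_⟩
  intro hr
  obtain ⟨s, hs, hsr⟩ := exists_preimage_of_maps (MulAut.conj g) h _ hr
  have h2 : g * s * g⁻¹ = g * r * g⁻¹ := hsr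
  rw [← mul_left_cancel (mul_right_cancel h2)]
  exact hs

end Cfsg.Agent.H60
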