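import Cfsg.Agent.H60.Gen2
import Mathlib.GroupTheory.SpecificGroups.Alternating.Simple
import Mathlib.GroupTheory.SpecificGroups.Alternating.Centralizer

/-! Recognition of `C2 × A5` from a group of order `120` with a subgroup of index `5` whose core
is a central subgroup of order `2`, and abelian Sylow `2`-subgroups. -/

set_option autoImplicit false

namespace Cfsg.Agent.H60

open Subgroup

variable {C : Type*} [Group C] [Finite C]

theorem exists_rho (hC : Nat.card C = 120) {t : C} (ht : orderOf t = 2) {B : Subgroup C}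
    (hB : B.index = 5) (hcore : B.normalCore = zpowers t) :
    ∃ ρ : C →* Equiv.Perm (Fin 5), ρ.ker = zpowers t ∧ ρ.range = alternatingGroup (Fin 5) ∧
      ∃ i0 : Fin 5, ∀ b, b ∈ B ↔ ρ b i0 = i0 := by
  have hcard : Nat.card (C ⧸ B) = 5 := hB
  let e : (C ⧸ B) ≃ Fin 5 := Finite.equivFinOfCardEq hcard
  let ρ : C →* Equiv.Perm (Fin 5) :=
    (e.permCongrHom.toMonoidHom).comp (MulAction.toPermHom C (C ⧸ B))
  have hker : ρ.ker = zpowers t := by
    rw [← hcore, Subgroup.normalCore_eq_ker]
    ext x
    rw [MonoidHom.mem_ker, MonoidHom.mem_ker]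
    constructor
    · intro h
      exact e.permCongrHom.injective (h.trans (map_one _).symm)
    · intro h
      change e.permCongrHom (MulAction.toPermHom C (C ⧸ B) x) = 1
      rw [h, map_one]
  refine ⟨ρ, hker, ?_, ?_⟩
  · apply Equiv.Perm.eq_alternatingGroup_of_index_eq_two
    have h1 : Nat.card ρ.range = 60 := by
      have h2 : ρ.ker.index = Nat.card ρ.range := Subgroup.index_ker ρ
      have h3 := Subgroup.card_mul_index ρ.ker
      rw [hC] at h3
      have h4 : Nat.card ρ.ker = 2 := by
        rw [hker, Nat.card_zpowers, ht]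
      rw [h4] at h3
      omega
    have h2 := Subgroup.card_mul_index ρ.range
    have h3 : Nat.card (Equiv.Perm (Fin 5)) = 120 := by
      rw [Nat.card_perm, Nat.card_eq_fintype_card, Fintype.card_fin]
      rfl
    rw [h1, h3] at h2
    omega
  · refine ⟨e ((1 : C) : C ⧸ B), ?_⟩
    intro b
    have h1 : ρ b (e ((1 : C) : C ⧸ B)) = e ((b : C) : C ⧸ B) := by
      change e (b • (e.symm (e ((1 : C) : C ⧸ B)))) = _
      rw [Equiv.symm_apply_apply]
      have : b • ((1 : C) : C ⧸ B) = ((b * 1 : C) : C ⧸ B) := rfl
      rw [this, mul_one]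
    rw [h1, e.injective.eq_iff, QuotientGroup.eq, mul_one, inv_mem_iff]

theorem recog_C2A5 (hC : Nat.card C = 120) {t : C} (ht : orderOf t = 2) (htc : t ∈ center C)
    {B : Subgroup C} (hB : B.index = 5) (hcore : B.normalCore = zpowers t) (P : Sylow 2 C)
    (htP : t ∈ P)
    (hab : ∀ a ∈ P, ∀ b ∈ P, a * b = b * a) :
    Nonempty (C ≃* Multiplicative (ZMod 2) × alternatingGroup (Fin 5)) := by
  obtain ⟨ρ, hker, hrange, -⟩ := exists_rho hC ht hB hcore
  have : Fact (Nat.Prime 2) := ⟨Nat.prime_two⟩
  have ht1 : t ≠ 1 := by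
    rintro rfl
    rw [orderOf_one] at ht
    exact absurd ht (by norm_num)
  have htC : t ∉ commutator C := by
    intro h
    exact ht1 (eq_one_of_central_of_commutator P hab htP htc h)
  let τ : C →* alternatingGroup (Fin 5) :=
    ρ.codRestrict (alternatingGroup (Fin 5)) (fun x => by
      rw [← hrange]
      exact ⟨x, rfl⟩)
  have hτs : Function.Surjective τ := by
    rintro ⟨g, hg⟩
    rw [← hrange] at hg
    obtain ⟨x, rfl⟩ := hg
    exact ⟨x, rfl⟩
  have hτk : ∀ x : C, τ x = 1 → x ∈ zpowers t := by
    intro x hx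
    rw [← hker, MonoidHom.mem_ker]
    exact congrArg Subtype.val hx
  let Φ : C →* Abelianization C × alternatingGroup (Fin 5) := Abelianization.of.prod τ
  have hmem : ∀ x : C, x ∈ zpowers t → x = 1 ∨ x = t := by
    rintro _ ⟨n, rfl⟩
    have h2 : t ^ 2 = 1 := by rw [← ht]; exact pow_orderOf_eq_one t
    rcases Int.even_or_odd' n with ⟨m, rfl | rfl⟩
    · left
      change t ^ (2 * m) = 1
      rw [zpow_mul]
      have : t ^ (2 : ℤ) = 1 := by exact_mod_cast h2
      rw [this, one_zpow]
    · right
      change t ^ (2 * m + 1) = t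
      rw [zpow_add, zpow_mul]
      have : t ^ (2 : ℤ) = 1 := by exact_mod_cast h2
      rw [this, one_zpow, one_mul, zpow_one]
  have hinj : Function.Injective Φ := by
    rw [injective_iff_map_eq_one]
    intro x hx
    have h1 : Abelianization.of x = 1 := congrArg Prod.fst hx
    have h2 : τ x = 1 := congrArg Prod.snd hx
    rcases hmem x (hτk x h2) with h | h
    · exact h
    · exfalso
      apply htC
      rw [← h]
      rw [← Abelianization.ker_of C]
      exact h1
  have hperf : commutator (alternatingGroup (Fin 5)) = ⊤ :=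
    commutator_alternatingGroup_eq_top (by simp)
  have hab2 : Nat.card (Abelianization C) ≤ 2 := by
    have hsurj : Function.Surjective (fun x : zpowers t => Abelianization.of (x : C)) := by
      intro y
      obtain ⟨c, rfl⟩ := QuotientGroup.mk_surjective y
      have h1 : τ c ∈ (commutator C).map τ := by
        rw [map_commutator_eq, MonoidHom.range_eq_top.mpr hτs]
        have : (⁅(⊤ : Subgroup (alternatingGroup (Fin 5))), ⊤⁆) = ⊤ := hperf
        rw [this]
        exact mem_top _
      obtain ⟨d, hd, hdc⟩ := h1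
      have h2 : d⁻¹ * c ∈ zpowers t := by
        apply hτk
        rw [map_mul, map_inv, hdc, inv_mul_cancel]
      refine ⟨⟨d⁻¹ * c, h2⟩, ?_⟩
      have h3 : Abelianization.of d = 1 := by
        rw [← Abelianization.ker_of C] at hd
        exact hd
      change Abelianization.of (d⁻¹ * c) = Abelianization.of c
      rw [map_mul, map_inv, h3, inv_one, one_mul]
    have := Nat.card_le_card_of_surjective _ hsurj
    rwa [Nat.card_zpowers, ht] at this
  have hA5 : Nat.card (alternatingGroup (Fin 5)) = 60 := by
    rw [nat_card_alternatingGroup, Nat.card_eq_fintype_card, Fintype.card_fin]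
    rfl
  have hfin : Finite (Abelianization C) := inferInstanceAs (Finite (C ⧸ commutator C))
  have hle : Nat.card C ≤ Nat.card (Abelianization C × alternatingGroup (Fin 5)) :=
    Nat.card_le_card_of_injective _ hinj
  rw [Nat.card_prod, hC, hA5] at hle
  have hab3 : Nat.card (Abelianization C) = 2 := by omega
  have hbij : Function.Bijective Φ := by
    apply hinj.bijective_of_nat_card_le
    rw [Nat.card_prod, hC, hA5, hab3]
  let e1 : C ≃* Abelianization C × alternatingGroup (Fin 5) := MulEquiv.ofBijective Φ hbij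
  have e2 : Abelianization C ≃* Multiplicative (ZMod 2) :=
    mulEquivOfPrimeCardEq (p := 2) hab3 (by simp)
  exact ⟨e1.trans (e2.prodCongr (MulEquiv.refl _))⟩

end Cfsg.Agent.H60
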