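import Mathlib

/-! Three primes along a normal series are not pairwise non-adjacent in the prime graph. -/

set_option autoImplicit false

namespace Cfsg.Agent.H60

section core

variable {V X : Type*} [CommGroup V] [Group X]

/-- Partition argument: if `Q` and `ρ` act without fixed points on the abelian group `V`, and the
powers of `ρ` act without fixed points on `Q`, then `V` has exponent dividing the order of `Q`. -/
theorem core_pow_card (φ : X →* MulAut V) (Q : Subgroup X) [Finite Q] (ρ : X) (r : ℕ)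
    (hr : 0 < r) (hρ : ρ ^ r = 1)
    (hnorm : ∀ y ∈ Q, ρ * y * ρ⁻¹ ∈ Q)
    (hQfree : ∀ v : V, (∀ y ∈ Q, φ y v = v) → v = 1)
    (hρfree : ∀ v : V, φ ρ v = v → v = 1)
    (hreg : ∀ k : ℕ, 0 < k → k < r → ∀ y ∈ Q, ρ ^ k * y = y * ρ ^ k → y = 1)
    (v : V) : v ^ Nat.card Q = 1 := by
  classical
  have : Fintype Q := Fintype.ofFinite _
  -- product over Q is trivial
  have hQ1 : ∀ u : V, ∏ y : Q, φ (y : X) u = 1 := by
    intro u
    apply hQfree
    intro z hz
    rw [map_prod]
    have : ∀ y : Q, φ z (φ (y : X) u) = φ ((((⟨z, hz⟩ : Q) * y : Q)) : X) u := by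
      intro y
      rw [← MulAut.mul_apply, ← map_mul]
      rfl
    simp only [this]
    exact Fintype.prod_equiv (Equiv.mulLeft (⟨z, hz⟩ : Q)) _ _ (fun y => rfl)
  -- product over the powers of ρ is trivial
  have hR1 : ∀ u : V, ∏ k ∈ Finset.range r, φ (ρ ^ k) u = 1 := by
    intro u
    apply hρfree
    rw [map_prod]
    have e : ∀ k : ℕ, φ ρ (φ (ρ ^ k) u) = φ (ρ ^ (k + 1)) u := by
      intro k
      rw [← MulAut.mul_apply, ← map_mul, ← pow_succ']
    simp only [e]
    obtain ⟨s, rfl⟩ : ∃ s, r = s + 1 := ⟨r - 1, by omega⟩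
    rw [Finset.prod_range_succ, Finset.prod_range_succ' (fun k => φ (ρ ^ k) u), hρ, pow_zero]
  -- the double product
  have hdouble : ∏ y : Q, ∏ k ∈ Finset.range r, φ ((y : X) * ρ ^ k * (y : X)⁻¹) v = 1 := by
    apply Finset.prod_eq_one
    intro y _
    have : ∀ k : ℕ, φ ((y : X) * ρ ^ k * (y : X)⁻¹) v = φ (y : X) (φ (ρ ^ k) (φ ((y : X)⁻¹) v)) := by
      intro k
      rw [map_mul, map_mul, MulAut.mul_apply, MulAut.mul_apply]
    simp only [this]
    rw [← map_prod, hR1, map_one]
  rw [Finset.prod_comm] at hdouble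
  obtain ⟨s, rfl⟩ : ∃ s, r = s + 1 := ⟨r - 1, by omega⟩
  rw [Finset.prod_range_succ'] at hdouble
  have hnormk : ∀ k : ℕ, ∀ y ∈ Q, ρ ^ k * y * (ρ ^ k)⁻¹ ∈ Q := by
    intro k
    induction k with
    | zero => intro y hy; simpa using hy
    | succ k ih =>
      intro y hy
      have := hnorm _ (ih y hy)
      convert this using 1
      rw [pow_succ']
      group
  have hk : ∀ k ∈ Finset.range s, ∏ y : Q, φ ((y : X) * ρ ^ (k + 1) * (y : X)⁻¹) v = 1 := by
    intro k hk
    rw [Finset.mem_range] at hk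
    let f : Q → Q := fun y => ⟨(y : X) * (ρ ^ (k + 1) * (y : X)⁻¹ * (ρ ^ (k + 1))⁻¹),
      Q.mul_mem y.2 (hnormk (k + 1) _ (Q.inv_mem y.2))⟩
    have hf : Function.Injective f := by
      intro y z hyz
      have h1 : (y : X) * (ρ ^ (k + 1) * (y : X)⁻¹ * (ρ ^ (k + 1))⁻¹) =
          (z : X) * (ρ ^ (k + 1) * (z : X)⁻¹ * (ρ ^ (k + 1))⁻¹) := congrArg Subtype.val hyz
      have h2 : ρ ^ (k + 1) * ((z : X)⁻¹ * y) = ((z : X)⁻¹ * y) * ρ ^ (k + 1) := by
        have h3 : (z : X)⁻¹ * ((y : X) * (ρ ^ (k + 1) * (y : X)⁻¹ * (ρ ^ (k + 1))⁻¹)) *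
              ρ ^ (k + 1) * y =
            (z : X)⁻¹ * ((z : X) * (ρ ^ (k + 1) * (z : X)⁻¹ * (ρ ^ (k + 1))⁻¹)) *
              ρ ^ (k + 1) * y := by rw [h1]
        have h4 : (z : X)⁻¹ * ((y : X) * (ρ ^ (k + 1) * (y : X)⁻¹ * (ρ ^ (k + 1))⁻¹)) *
              ρ ^ (k + 1) * y = (z : X)⁻¹ * y * ρ ^ (k + 1) := by group
        have h5 : (z : X)⁻¹ * ((z : X) * (ρ ^ (k + 1) * (z : X)⁻¹ * (ρ ^ (k + 1))⁻¹)) *
              ρ ^ (k + 1) * y = ρ ^ (k + 1) * ((z : X)⁻¹ * y) := by group
        rw [h4, h5] at h3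
        exact h3.symm
      have h3 := hreg (k + 1) (Nat.succ_pos _) (by omega) _ (Q.mul_mem (Q.inv_mem z.2) y.2) h2
      apply Subtype.ext
      rw [inv_mul_eq_one] at h3
      exact h3.symm
    have hfb : Function.Bijective f := Finite.injective_iff_bijective.mp hf
    rw [← hQ1 (φ (ρ ^ (k + 1)) v)]
    apply Fintype.prod_bijective f hfb
    intro y
    rw [← MulAut.mul_apply, ← map_mul]
    congr 2
    simp only [f]
    group
  rw [Finset.prod_eq_one hk, one_mul] at hdouble
  simp only [pow_zero, mul_one, mul_inv_cancel, map_one, MulAut.one_apply, Finset.prod_const,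
    Finset.card_univ] at hdouble
  rwa [Nat.card_eq_fintype_card]

end core

/-- Commuting elements of coprime orders divisible by `p` and `q` give an element of order `pq`. -/
theorem exists_orderOf_mul {G : Type*} [Group G] {x y : G} (hxy : x * y = y * x) {p q : ℕ}
    (hp : p.Prime) (hq : q.Prime) (hpq : p ≠ q) (hx : p ∣ orderOf x) (hy : q ∣ orderOf y)
    (hx0 : orderOf x ≠ 0) (hy0 : orderOf y ≠ 0) :
    ∃ z : G, orderOf z = p * q := by
  obtain ⟨a, ha⟩ := hx
  obtain ⟨b, hb⟩ := hy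
  have ha0 : a ≠ 0 := by rintro rfl; exact hx0 (by rw [ha, mul_zero])
  have hb0 : b ≠ 0 := by rintro rfl; exact hy0 (by rw [hb, mul_zero])
  have h1 : orderOf (x ^ a) = p := by
    rw [orderOf_pow_of_dvd ha0 (by rw [ha]; exact Dvd.intro_left p rfl), ha]
    exact Nat.mul_div_cancel _ (Nat.pos_of_ne_zero ha0)
  have h2 : orderOf (y ^ b) = q := by
    rw [orderOf_pow_of_dvd hb0 (by rw [hb]; exact Dvd.intro_left q rfl), hb]
    exact Nat.mul_div_cancel _ (Nat.pos_of_ne_zero hb0)
  have hc : Commute (x ^ a) (y ^ b) := (show Commute x y from hxy).pow_pow a b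
  refine ⟨x ^ a * y ^ b, ?_⟩
  have hcop : (orderOf (x ^ a)).Coprime (orderOf (y ^ b)) := by
    rw [h1, h2]; exact (Nat.coprime_primes hp hq).mpr hpq
  rw [hc.orderOf_mul_eq_mul_orderOf_of_coprime hcop, h1, h2]

/-- A normal `p`-subgroup, a `q`-subgroup and an element of order `r` normalizing it. -/
theorem three_primes_core {X : Type*} [Group X] [Finite X] {p q r : ℕ}
    (hp : p.Prime) (hq : q.Prime) (hr : r.Prime) (hpq : p ≠ q) (hpr : p ≠ r) (hqr : q ≠ r)
    (P Q : Subgroup X) [P.Normal] (hP : IsPGroup p P) (hP1 : P ≠ ⊥)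
    (hQ : IsPGroup q Q) (hQ1 : Q ≠ ⊥) (ρ : X) (hρ : orderOf ρ = r)
    (hnorm : ∀ y ∈ Q, ρ * y * ρ⁻¹ ∈ Q) :
    (∃ x : X, orderOf x = p * q) ∨ (∃ x : X, orderOf x = p * r) ∨ (∃ x : X, orderOf x = q * r) := by
  classical
  have : Fact p.Prime := ⟨hp⟩
  have : Fact q.Prime := ⟨hq⟩
  by_contra hcon
  push Not at hcon
  obtain ⟨h1, h2, h3⟩ := hcon
  have : Nontrivial P := P.nontrivial_iff_ne_bot.mpr hP1
  -- the centre of P
  let V : Subgroup X := (Subgroup.center P).map P.subtype
  have hVn : V.Normal := inferInstance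
  have hVP : V ≤ P := Subgroup.map_subtype_le _
  have hVcomm : ∀ a b : V, a * b = b * a := by
    rintro ⟨a, ha⟩ ⟨b, hb⟩
    apply Subtype.ext
    obtain ⟨a', ha', rfl⟩ := ha
    obtain ⟨b', hb', rfl⟩ := hb
    have := Subgroup.mem_center_iff.mp ha' b'
    exact (congrArg Subtype.val this).symm
  let instV : CommGroup V := { (inferInstance : Group V) with mul_comm := hVcomm }
  have hZ : Nontrivial (Subgroup.center P) := hP.center_nontrivial
  obtain ⟨v, hv1⟩ : ∃ v : V, v ≠ 1 := by
    obtain ⟨z, hz⟩ := exists_ne (1 : Subgroup.center P)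
    refine ⟨⟨(z : P), Subgroup.mem_map_of_mem _ z.2⟩, ?_⟩
    intro h
    apply hz
    have := congrArg Subtype.val h
    apply Subtype.ext
    apply Subtype.ext
    exact this
  have hVord : ∀ v : V, v ≠ 1 → p ∣ orderOf (v : X) := by
    intro v hv
    obtain ⟨k, hk⟩ := hP ⟨v, hVP v.2⟩
    have hk' : (v : X) ^ p ^ k = 1 := by
      have := congrArg Subtype.val hk
      simpa using this
    obtain ⟨j, hj, hj2⟩ := (Nat.dvd_prime_pow hp).mp (orderOf_dvd_of_pow_eq_one hk')
    rw [hj2]
    rcases Nat.eq_zero_or_pos j with rfl | hjpos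
    · exfalso
      rw [pow_zero, orderOf_eq_one_iff] at hj2
      apply hv
      apply Subtype.ext
      exact hj2
    · exact dvd_pow_self p (by omega)
  have hQord : ∀ y ∈ Q, y ≠ 1 → q ∣ orderOf y := by
    intro y hy hy1
    obtain ⟨k, hk⟩ := hQ ⟨y, hy⟩
    have hk' : y ^ q ^ k = 1 := by
      have := congrArg Subtype.val hk
      simpa using this
    obtain ⟨j, hj, hj2⟩ := (Nat.dvd_prime_pow hq).mp (orderOf_dvd_of_pow_eq_one hk')
    rw [hj2]
    rcases Nat.eq_zero_or_pos j with rfl | hjpos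
    · exfalso
      rw [pow_zero, orderOf_eq_one_iff] at hj2
      exact hy1 hj2
    · exact dvd_pow_self q (by omega)
  obtain ⟨y0, hy0, hy01⟩ : ∃ y ∈ Q, y ≠ 1 := by
    by_contra hc
    push Not at hc
    exact hQ1 ((Subgroup.eq_bot_iff_forall Q).mpr hc)
  have hfin : ∀ x : X, orderOf x ≠ 0 := fun x => (orderOf_pos x).ne'
  have key := core_pow_card (MulAut.conjNormal : X →* MulAut V) Q ρ r hr.pos
    (by rw [← hρ]; exact pow_orderOf_eq_one ρ) hnorm
    (by
      intro w hw
      by_contra hw1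
      have hc := congrArg Subtype.val (hw y0 hy0)
      rw [MulAut.conjNormal_apply] at hc
      have hc' : (w : X) * y0 = y0 * w := by
        rw [mul_inv_eq_iff_eq_mul] at hc
        exact hc.symm
      obtain ⟨z, hz⟩ := exists_orderOf_mul hc' hp hq hpq (hVord w hw1) (hQord y0 hy0 hy01)
        (hfin _) (hfin _)
      exact h1 z hz)
    (by
      intro w hw
      by_contra hw1
      have hc := congrArg Subtype.val hw
      rw [MulAut.conjNormal_apply] at hc
      have hc' : (w : X) * ρ = ρ * w := by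
        rw [mul_inv_eq_iff_eq_mul] at hc
        exact hc.symm
      obtain ⟨z, hz⟩ := exists_orderOf_mul hc' hp hr hpr (hVord w hw1) (dvd_of_eq hρ.symm)
        (hfin _) (hfin _)
      exact h2 z hz)
    (by
      intro k hk0 hkr y hy hc
      by_contra hy1
      have hok : orderOf (ρ ^ k) = r := by
        rw [orderOf_pow, hρ]
        have : Nat.gcd r k = 1 := by
          rw [Nat.gcd_comm]
          exact (Nat.Coprime.symm ((Nat.Prime.coprime_iff_not_dvd hr).mpr
            (fun hd => by have := Nat.le_of_dvd hk0 hd; omega)))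
        rw [this, Nat.div_one]
      obtain ⟨z, hz⟩ := exists_orderOf_mul hc.symm hq hr hqr (hQord y hy hy1)
        (dvd_of_eq hok.symm) (hfin _) (hfin _)
      exact h3 z hz)
    v
  have hcop : Nat.Coprime (Nat.card Q) p := by
    obtain ⟨n, hn⟩ := hQ.exists_card_eq
    rw [hn]
    exact Nat.Coprime.pow_left n ((Nat.coprime_primes hq hp).mpr (Ne.symm hpq))
  have hv' : (v : X) ^ Nat.card Q = 1 := by
    have := congrArg Subtype.val key
    simpa using this
  have hd : p ∣ Nat.card Q := (hVord v hv1).trans (orderOf_dvd_of_pow_eq_one hv')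
  have := Nat.Coprime.eq_one_of_dvd hcop.symm hd
  exact hp.one_lt.ne' this

/-- Frattini-type step. -/
theorem three_primes_series {G : Type*} [Group G] [Finite G] (K M : Subgroup G) [K.Normal]
    [M.Normal] (hKM : K ≤ M)
    (p q r : ℕ) (hp : p.Prime) (hq : q.Prime) (hr : r.Prime) (hpq : p ≠ q) (hpr : p ≠ r)
    (hqr : q ≠ r)
    (hpK : p ∣ Nat.card ↥K) (hqM : q ∣ K.relIndex M) (hrG : r ∣ M.index) :
    (∃ x : G, orderOf x = p * q) ∨ (∃ x : G, orderOf x = p * r) ∨ (∃ x : G, orderOf x = q * r) := by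
  classical
  have : Fact p.Prime := ⟨hp⟩
  have : Fact q.Prime := ⟨hq⟩
  have : Fact r.Prime := ⟨hr⟩
  obtain ⟨P⟩ : Nonempty (Sylow p K) := inferInstance
  let P' : Subgroup G := (P : Subgroup K).map K.subtype
  let N : Subgroup G := Subgroup.normalizer (P' : Set G)
  have hNK : N ⊔ K = ⊤ := Sylow.normalizer_sup_eq_top P
  have hNM : N ⊔ M = ⊤ := by
    rw [eq_top_iff, ← hNK]
    exact sup_le_sup_left hKM N
  have hP1 : P' ≠ ⊥ := by
    intro h
    have h' : (P : Subgroup K) = ⊥ := by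
      apply (Subgroup.map_eq_bot_iff_of_injective _ K.subtype_injective).mp h
    have := P.card_eq_multiplicity
    rw [h', Subgroup.card_bot] at this
    have hpos : 0 < (Nat.card K).factorization p := hp.factorization_pos_of_dvd
      (Nat.card_pos.ne') hpK
    have h2 : 1 < p ^ (Nat.card K).factorization p := Nat.one_lt_pow hpos.ne' hp.one_lt
    omega
  have hP'p : IsPGroup p P' := P.isPGroup'.map _
  have hP'N : P' ≤ N := Subgroup.le_normalizer
  -- q divides |N ∩ M|
  have hq1 : q ∣ Nat.card (N ⊓ M : Subgroup G) := by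
    have h1 : K.relIndex (N ⊓ M) = K.relIndex M := by
      rw [← Subgroup.relIndex_sup_right]
      congr 1
      apply le_antisymm (sup_le inf_le_right hKM)
      intro m hm
      have hmt : m ∈ N ⊔ K := by rw [hNK]; trivial
      obtain ⟨n, hn, k, hk, hnk⟩ := Subgroup.mem_sup_of_normal_right.mp hmt
      rw [← hnk]
      refine Subgroup.mul_mem_sup ⟨hn, ?_⟩ hk
      have : n = m * k⁻¹ := by rw [← hnk]; group
      change n ∈ M
      rw [this]
      exact M.mul_mem hm (M.inv_mem (hKM hk))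
    exact (h1 ▸ hqM).trans (Subgroup.relIndex_dvd_card _ _)
  let M' : Subgroup N := M.subgroupOf N
  have : M'.Normal := inferInstance
  have hM'card : Nat.card M' = Nat.card (N ⊓ M : Subgroup G) := by
    have : (M.subgroupOf N) = (N ⊓ M).subgroupOf N := by
      rw [Subgroup.inf_subgroupOf_left]
    change Nat.card (M.subgroupOf N) = _
    rw [this]
    exact Nat.card_congr (Subgroup.subgroupOfEquivOfLe inf_le_left).toEquiv
  obtain ⟨Q⟩ : Nonempty (Sylow q M') := inferInstance
  let Q' : Subgroup N := (Q : Subgroup M').map M'.subtype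
  have hQ1 : Q' ≠ ⊥ := by
    intro h
    have h' : (Q : Subgroup M') = ⊥ := by
      apply (Subgroup.map_eq_bot_iff_of_injective _ M'.subtype_injective).mp h
    have := Q.card_eq_multiplicity
    rw [h', Subgroup.card_bot] at this
    have hpos : 0 < (Nat.card M').factorization q := hq.factorization_pos_of_dvd
      (Nat.card_pos.ne') (by rw [hM'card]; exact hq1)
    have h2 : 1 < q ^ (Nat.card M').factorization q := Nat.one_lt_pow hpos.ne' hq.one_lt
    omega
  have hQ'q : IsPGroup q Q' := Q.isPGroup'.map _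
  let L : Subgroup N := Subgroup.normalizer (Q' : Set N)
  have hL : L ⊔ M' = ⊤ := Sylow.normalizer_sup_eq_top Q
  have hr1 : r ∣ Nat.card L := by
    have h1 : M'.relIndex L = M.index := by
      rw [← Subgroup.relIndex_sup_right, hL, Subgroup.relIndex_top_right]
      change M.relIndex N = M.index
      rw [← Subgroup.relIndex_sup_right, hNM, Subgroup.relIndex_top_right]
    exact (h1 ▸ hrG).trans (Subgroup.relIndex_dvd_card _ _)
  obtain ⟨ρ, hρ⟩ := exists_prime_orderOf_dvd_card' (G := L) r hr1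
  let P'' : Subgroup N := P'.subgroupOf N
  have : P''.Normal := by
    exact Subgroup.normal_in_normalizer
  have := three_primes_core (X := N) hp hq hr hpq hpr hqr P'' Q'
    (hP'p.comap_subtype) (by
      intro h
      apply hP1
      have := Subgroup.subgroupOf_eq_bot.mp h
      rw [disjoint_iff, inf_eq_left.mpr hP'N] at this
      exact this) hQ'q hQ1 (ρ : N) (by rw [Subgroup.orderOf_coe]; exact hρ)
    (by
      intro y hy
      exact (Subgroup.mem_normalizer_iff.mp ρ.2 y).mp hy)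
  rcases this with ⟨x, hx⟩ | ⟨x, hx⟩ | ⟨x, hx⟩
  · exact Or.inl ⟨x, by rw [Subgroup.orderOf_coe]; exact hx⟩
  · exact Or.inr (Or.inl ⟨x, by rw [Subgroup.orderOf_coe]; exact hx⟩)
  · exact Or.inr (Or.inr ⟨x, by rw [Subgroup.orderOf_coe]; exact hx⟩)

end Cfsg.Agent.H60
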